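import Mathlib.FieldTheory.IsAlgClosed.Basic
import Mathlib.RingTheory.PowerSeries.Basic
import Mathlib.Algebra.Polynomial.Taylor
import Mathlib.Algebra.Polynomial.Reverse
import Mathlib.Algebra.MvPolynomial.Funext
import Mathlib.RingTheory.AlgebraicIndependent.Basic

/-!
# Rational functions which are regular along a generic line are constant

`const`: `P / Q` a quotient of polynomials in `M` variables over an infinite field `k`, homogeneous of degree `0` along
the line `a + t b`, `a`, `b` algebraically independent in an algebraically closed field `Ω ⊇ k`. If `P / Q` is regular at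
all points of the line and at infinity then it is a constant of `k`.
-/

set_option autoImplicit false

namespace K667.Line

open Polynomial

section dvd

variable {F : Type*} [Field F]

theorem X_pow_dvd_of_coe {p q : F[X]} {s : ℕ} (hq : X ^ s ∣ q) (h : (q : PowerSeries F) ∣ p) : X ^ s ∣ p := by
  rw [Polynomial.X_pow_dvd_iff]
  have h1 : (PowerSeries.X ^ s : PowerSeries F) ∣ p := by
    refine dvd_trans ?_ h
    obtain ⟨r, hr⟩ := hq
    exact ⟨r, by rw [hr, Polynomial.coe_mul, Polynomial.coe_pow, Polynomial.coe_X]⟩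
  intro d hd
  rw [← Polynomial.coeff_coe]
  exact PowerSeries.X_pow_dvd_iff.1 h1 d hd

theorem taylor_X_sub_C (c : F) : taylor c (X - C c) = X := by
  rw [map_sub, taylor_X, taylor_C, add_sub_cancel_right]

theorem pow_dvd_iff_taylor {p : F[X]} {c : F} {n : ℕ} : (X - C c) ^ n ∣ p ↔ X ^ n ∣ taylor c p := by
  constructor
  · rintro ⟨r, rfl⟩
    exact ⟨taylor c r, by rw [taylor_mul, taylor_pow, taylor_X_sub_C]⟩
  · rintro ⟨r, hr⟩
    refine ⟨taylor (-c) r, ?_⟩
    apply taylor_injective c
    rw [taylor_mul, taylor_pow, taylor_X_sub_C, taylor_taylor, add_neg_cancel, taylor_zero, hr]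

theorem dvd_of_regular [IsAlgClosed F] {p q : F[X]} (hq : q ≠ 0)
    (h : ∀ c : F, ((taylor c q : F[X]) : PowerSeries F) ∣ (taylor c p : F[X])) : q ∣ p := by
  by_cases hp : p = 0
  · simp [hp]
  classical
  rw [IsAlgClosed.dvd_iff_roots_le_roots hq hp, Multiset.le_iff_count]
  intro c
  rw [count_roots, count_roots, le_rootMultiplicity_iff hp, pow_dvd_iff_taylor]
  exact X_pow_dvd_of_coe (pow_dvd_iff_taylor.1 (pow_rootMultiplicity_dvd q c)) (h c)

end dvd

section infinity

variable {F : Type*} [Field F] [Infinite F]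

omit [Infinite F] in
theorem eval_reflect {t : F} (ht : t ≠ 0) {N : ℕ} {f : F[X]} (hf : f.natDegree ≤ N) :
    (reflect N f).eval t = t ^ N * f.eval t⁻¹ := by
  have : Invertible t⁻¹ := invertibleOfNonzero (inv_ne_zero ht)
  have h1 := eval₂_reflect_mul_pow (RingHom.id F) t⁻¹ N f hf
  have h2 : (⅟t⁻¹ : F) = t := by rw [invOf_eq_inv, inv_inv]
  rw [h2, eval₂_id, eval₂_id] at h1
  rw [← h1, inv_pow, mul_comm, mul_assoc, inv_mul_cancel₀ (pow_ne_zero _ ht), mul_one]

/-- A polynomial `f` with `f(t) = p(1/t) / q(1/t)`, `p / q` regular at `0`, is constant. -/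
theorem natDegree_eq_zero {f p q : F[X]} {s : Set F} (hs : s.Finite)
    (h : ∀ t, t ∉ s → t ≠ 0 → f.eval t * q.eval t⁻¹ = p.eval t⁻¹) (hq0 : q ≠ 0)
    (hreg : (q : PowerSeries F) ∣ p) : f.natDegree = 0 := by
  by_cases hf0 : f = 0
  · simp [hf0]
  -- remove the common power of `X`
  obtain ⟨q₁, hq₁⟩ := pow_rootMultiplicity_dvd q 0
  set n := rootMultiplicity 0 q with hn
  rw [C_0, sub_zero] at hq₁
  have hq₁0 : q₁.eval 0 ≠ 0 := by
    intro h0
    have h1 : X ∣ q₁ := by
      rw [X_dvd_iff, coeff_zero_eq_eval_zero, h0]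
    have h2 : (X - C 0) ^ (n + 1) ∣ q := by
      rw [C_0, sub_zero, hq₁, pow_succ]
      exact mul_dvd_mul_left _ h1
    have h3 := (le_rootMultiplicity_iff hq0).2 h2
    omega
  obtain ⟨p₁, hp₁⟩ := X_pow_dvd_of_coe ⟨q₁, hq₁⟩ hreg
  have h' : ∀ t, t ∉ s → t ≠ 0 → f.eval t * q₁.eval t⁻¹ = p₁.eval t⁻¹ := by
    intro t ht ht0
    have h1 := h t ht ht0
    rw [hp₁, hq₁, eval_mul, eval_mul, eval_pow, eval_X] at h1
    have h2 : (t⁻¹) ^ n ≠ 0 := pow_ne_zero _ (inv_ne_zero ht0)
    apply mul_left_cancel₀ h2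
    linear_combination h1
  set N := max q₁.natDegree p₁.natDegree with hN
  have h1 : f * reflect N q₁ = reflect N p₁ := by
    apply eq_of_infinite_eval_eq
    refine ((Set.infinite_univ.sdiff (hs.union (Set.finite_singleton 0))).mono ?_)
    rintro t ⟨-, ht⟩
    rw [Set.mem_union, not_or, Set.mem_singleton_iff] at ht
    change (f * reflect N q₁).eval t = (reflect N p₁).eval t
    rw [eval_mul, eval_reflect ht.2 (le_max_left _ _), eval_reflect ht.2 (le_max_right _ _), ← h' t ht.1 ht.2]
    ring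
  have h2 : (reflect N q₁).coeff N ≠ 0 := by
    rw [coeff_reflect, revAt_le le_rfl, Nat.sub_self, coeff_zero_eq_eval_zero]
    exact hq₁0
  have h3 : N ≤ (reflect N q₁).natDegree := le_natDegree_of_ne_zero h2
  have h4 : reflect N q₁ ≠ 0 := fun h0 => h2 (by rw [h0, coeff_zero])
  have h5 : (reflect N p₁).natDegree ≤ N := by
    rw [natDegree_le_iff_coeff_eq_zero]
    intro i hi
    rw [coeff_reflect, revAt_eq_self_of_lt hi]
    exact coeff_eq_zero_of_natDegree_lt (lt_of_le_of_lt (le_max_right _ _) hi)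
  rw [← h1, natDegree_mul hf0 h4] at h5
  omega

end infinity

section line

variable {k Ω : Type*} [Field k] [Field Ω] [Algebra k Ω] {M : ℕ}

/-- The polynomial `P` along the line `a + t b`. -/
noncomputable def ln (a b : Fin M → Ω) : MvPolynomial (Fin M) k →ₐ[k] Ω[X] :=
  MvPolynomial.aeval fun i => C (a i) + X * C (b i)

/-- The polynomial `P` at the power series point `g + π b`. -/
noncomputable def lnS (g b : Fin M → Ω) : MvPolynomial (Fin M) k →ₐ[k] PowerSeries Ω :=
  MvPolynomial.aeval fun i => PowerSeries.C (g i) + PowerSeries.X * PowerSeries.C (b i)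

theorem eval_ln (a b : Fin M → Ω) (t : Ω) (P : MvPolynomial (Fin M) k) :
    (ln a b P).eval t = MvPolynomial.aeval (fun i => a i + t * b i) P := by
  have h1 : ((Polynomial.aeval t : Ω[X] →ₐ[Ω] Ω).restrictScalars k).comp (ln a b) =
      MvPolynomial.aeval (fun i => a i + t * b i) := by
    apply MvPolynomial.algHom_ext
    intro i
    simp [ln]
    ring
  have := congr($h1 P)
  simpa [Polynomial.coe_aeval_eq_eval] using this

theorem coe_taylor_ln (a b : Fin M → Ω) (c : Ω) (P : MvPolynomial (Fin M) k) :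
    ((taylor c (ln a b P) : Ω[X]) : PowerSeries Ω) = lnS (fun i => a i + c * b i) b P := by
  have h1 : (((Polynomial.coeToPowerSeries.algHom Ω).comp (taylorAlgHom c)).restrictScalars k).comp (ln a b) =
      lnS (fun i => a i + c * b i) b := by
    apply MvPolynomial.algHom_ext
    intro i
    simp [ln, lnS]
    ring
  have := congr($h1 P)
  simpa using this

theorem ln_ne_zero {Q : MvPolynomial (Fin M) k} (hQ : Q ≠ 0) {a : Fin M → Ω} (ha : AlgebraicIndependent k a)
    (b : Fin M → Ω) : ln a b Q ≠ 0 := by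
  intro h
  have h1 := eval_ln a b 0 Q
  rw [h, eval_zero] at h1
  exact hQ (ha (by rw [map_zero]; simpa using h1.symm))

/-- If `P / Q` is constant along a generic line then it is a constant of `k`. -/
theorem of_line [Infinite k] (P Q : MvPolynomial (Fin M) k) (hQ : Q ≠ 0) {a b : Fin M → Ω}
    (hab : AlgebraicIndependent k (Sum.elim a b)) (f₀ : Ω) (hf : ln a b P = ln a b Q * C f₀) :
    ∃ z : k, P = MvPolynomial.C z * Q := by
  have ha : AlgebraicIndependent k a := hab.comp Sum.inl Sum.inl_injective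
  have hval : ∀ t : Ω, MvPolynomial.aeval (fun i => a i + t * b i) P =
      f₀ * MvPolynomial.aeval (fun i => a i + t * b i) Q := by
    intro t
    rw [← eval_ln a b t P, ← eval_ln a b t Q, hf, eval_mul, eval_C, mul_comm]
  have h0 : MvPolynomial.aeval a P = f₀ * MvPolynomial.aeval a Q := by simpa using hval 0
  have h1 : MvPolynomial.aeval (fun i => a i + b i) P = f₀ * MvPolynomial.aeval (fun i => a i + b i) Q := by
    simpa using hval 1
  -- the identity `P(x) Q(x + y) = P(x + y) Q(x)`
  let ρ : MvPolynomial (Fin M) k →ₐ[k] MvPolynomial (Fin M ⊕ Fin M) k :=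
    MvPolynomial.aeval fun i => MvPolynomial.X (Sum.inl i)
  let σ : MvPolynomial (Fin M) k →ₐ[k] MvPolynomial (Fin M ⊕ Fin M) k :=
    MvPolynomial.aeval fun i => MvPolynomial.X (Sum.inl i) + MvPolynomial.X (Sum.inr i)
  have hρ : ∀ (v : Fin M ⊕ Fin M → Ω) (R : MvPolynomial (Fin M) k),
      MvPolynomial.aeval v (ρ R) = MvPolynomial.aeval (fun i => v (Sum.inl i)) R := by
    intro v R
    have : (MvPolynomial.aeval v).comp ρ = MvPolynomial.aeval (fun i => v (Sum.inl i)) := by
      apply MvPolynomial.algHom_ext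
      intro i
      simp [ρ]
    exact congr($this R)
  have hσ : ∀ (v : Fin M ⊕ Fin M → Ω) (R : MvPolynomial (Fin M) k),
      MvPolynomial.aeval v (σ R) = MvPolynomial.aeval (fun i => v (Sum.inl i) + v (Sum.inr i)) R := by
    intro v R
    have : (MvPolynomial.aeval v).comp σ = MvPolynomial.aeval (fun i => v (Sum.inl i) + v (Sum.inr i)) := by
      apply MvPolynomial.algHom_ext
      intro i
      simp [σ]
    exact congr($this R)
  have key : ρ P * σ Q = σ P * ρ Q := by
    apply hab
    rw [map_mul, map_mul, hρ, hρ, hσ, hσ]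
    change MvPolynomial.aeval a P * MvPolynomial.aeval (fun i => a i + b i) Q =
      MvPolynomial.aeval (fun i => a i + b i) P * MvPolynomial.aeval a Q
    rw [h0, h1]
    ring
  obtain ⟨y, hy⟩ : ∃ y : Fin M → k, MvPolynomial.eval y Q ≠ 0 := by
    by_contra hcon
    push Not at hcon
    exact hQ (MvPolynomial.funext fun y => by rw [hcon y, map_zero])
  have hy' : ∀ R : MvPolynomial (Fin M) k, MvPolynomial.aeval (fun i => algebraMap k Ω (y i)) R =
      algebraMap k Ω (MvPolynomial.eval y R) := by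
    intro R
    have h := MvPolynomial.aeval_algebraMap_apply (A := k) Ω y R
    exact h
  have h2 : MvPolynomial.aeval a P * algebraMap k Ω (MvPolynomial.eval y Q) =
      algebraMap k Ω (MvPolynomial.eval y P) * MvPolynomial.aeval a Q := by
    have h3 := congr(MvPolynomial.aeval (Sum.elim a (fun i => algebraMap k Ω (y i) - a i)) $key)
    rw [map_mul, map_mul, hρ, hρ, hσ, hσ] at h3
    simp only [Sum.elim_inl, Sum.elim_inr, add_sub_cancel] at h3
    rw [hy', hy'] at h3
    exact h3
  refine ⟨MvPolynomial.eval y P / MvPolynomial.eval y Q, ha ?_⟩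
  have h4 : algebraMap k Ω (MvPolynomial.eval y Q) ≠ 0 := (_root_.map_ne_zero _).2 hy
  rw [map_mul, MvPolynomial.aeval_C, map_div₀, div_mul_eq_mul_div, eq_div_iff h4]
  exact h2

/-- **A rational function which is regular along a generic line, including infinity, is constant.** -/
theorem const [Infinite k] [IsAlgClosed Ω] (P Q : MvPolynomial (Fin M) k) (hQ : Q ≠ 0) {a b : Fin M → Ω}
    (hab : AlgebraicIndependent k (Sum.elim a b))
    (hreg : ∀ c : Ω, lnS (fun i => a i + c * b i) b Q ∣ lnS (fun i => a i + c * b i) b P)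
    (hinf : lnS b a Q ∣ lnS b a P)
    (hhom : ∀ t : Ω, t ≠ 0 →
      MvPolynomial.aeval (fun i => a i + t * b i) P * MvPolynomial.aeval (fun i => b i + t⁻¹ * a i) Q =
      MvPolynomial.aeval (fun i => b i + t⁻¹ * a i) P * MvPolynomial.aeval (fun i => a i + t * b i) Q) :
    ∃ z : k, P = MvPolynomial.C z * Q := by
  have ha : AlgebraicIndependent k a := hab.comp Sum.inl Sum.inl_injective
  have hb : AlgebraicIndependent k b := hab.comp Sum.inr Sum.inr_injective
  have hq := ln_ne_zero hQ ha b
  have hq' := ln_ne_zero hQ hb a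
  obtain ⟨f, hf⟩ := dvd_of_regular (p := ln a b P) hq (fun c => by
    rw [coe_taylor_ln, coe_taylor_ln]
    exact hreg c)
  have hdeg : f.natDegree = 0 := by
    refine natDegree_eq_zero (p := ln b a P) (q := ln b a Q) (s := {t | (ln a b Q).IsRoot t})
      (Polynomial.finite_setOfPred_isRoot hq) ?_ hq' ?_
    · intro t ht ht0
      have h1 := hhom t ht0
      have h2 : MvPolynomial.aeval (fun i => b i + t⁻¹ * a i) Q = (ln b a Q).eval t⁻¹ := (eval_ln b a _ Q).symm
      have h3 : MvPolynomial.aeval (fun i => b i + t⁻¹ * a i) P = (ln b a P).eval t⁻¹ := (eval_ln b a _ P).symm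
      rw [← eval_ln a b t P, ← eval_ln a b t Q, h2, h3, hf, eval_mul] at h1
      have h4 : (ln a b Q).eval t ≠ 0 := ht
      apply mul_left_cancel₀ h4
      linear_combination h1
    · have h1 := coe_taylor_ln b a 0 Q
      have h2 := coe_taylor_ln b a 0 P
      rw [taylor_zero] at h1 h2
      rw [h1, h2]
      simpa using hinf
  obtain ⟨f₀, rfl⟩ : ∃ f₀, f = C f₀ := ⟨_, eq_C_of_natDegree_eq_zero hdeg⟩
  exact of_line P Q hQ hab f₀ hf

/-- The same with the behaviour at infinity expressed by the degrees along the line. -/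
theorem const_of_natDegree [Infinite k] [IsAlgClosed Ω] (P Q : MvPolynomial (Fin M) k) (hQ : Q ≠ 0) {a b : Fin M → Ω}
    (hab : AlgebraicIndependent k (Sum.elim a b))
    (hreg : ∀ c : Ω, lnS (fun i => a i + c * b i) b Q ∣ lnS (fun i => a i + c * b i) b P)
    (hinf : (ln a b P).natDegree ≤ (ln a b Q).natDegree) :
    ∃ z : k, P = MvPolynomial.C z * Q := by
  have ha : AlgebraicIndependent k a := hab.comp Sum.inl Sum.inl_injective
  have hq := ln_ne_zero hQ ha b
  obtain ⟨f, hf⟩ := dvd_of_regular (p := ln a b P) hq (fun c => by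
    rw [coe_taylor_ln, coe_taylor_ln]
    exact hreg c)
  have hdeg : f.natDegree = 0 := by
    by_cases hf0 : f = 0
    · simp [hf0]
    · rw [hf, natDegree_mul hq hf0] at hinf
      omega
  obtain ⟨f₀, rfl⟩ : ∃ f₀, f = C f₀ := ⟨_, eq_C_of_natDegree_eq_zero hdeg⟩
  exact of_line P Q hQ hab f₀ hf

end line

end K667.Line
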