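import Groth.Agent.Variety.K430.PDeg
import Mathlib.RingTheory.AlgebraicIndependent.TranscendenceBasis
import Mathlib.FieldTheory.Perfect
import Mathlib.LinearAlgebra.Pi

/-!
# Derivations at the points of a generic line

`Ω ⊇ k` fields of characteristic zero, `a, b : Fin M → Ω` algebraically independent over `k` (a generic line
`a + t b`), `c ∈ Ω` arbitrary. The vectors `D (a + c b)`, for all `k`-derivations `D` of `Ω`, and `b` span `Ω ^ M`.
-/

set_option autoImplicit false
universe u v

open scoped Classical

namespace K667.Trans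

section

variable {k Ω : Type*} [Field k] [CharZero k] [Field Ω] [Algebra k Ω]

/-- Derivations with prescribed values on an algebraically independent family. -/
theorem exists_der {ι : Type*} {a : ι → Ω} (ha : AlgebraicIndependent k a) (i : ι) :
    ∃ D : Derivation k Ω Ω, ∀ j, D (a j) = if j = i then 1 else 0 := by
  have : CharZero Ω := charZero_of_injective_algebraMap (algebraMap k Ω).injective
  obtain ⟨s, hs, hb⟩ := exists_isTranscendenceBasis_superset (R := k) (A := Ω) (s := Set.range a) ha.coe_range
  have halg : Algebra.IsAlgebraic (IntermediateField.adjoin k (Set.range ((↑) : s → Ω))) Ω := hb.isAlgebraic_field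
  have hsep : Algebra.IsSeparable (IntermediateField.adjoin k (Set.range ((↑) : s → Ω))) Ω := inferInstance
  obtain ⟨D, hD⟩ := K430.PDeg.exists_derivation hb.1 (⟨a i, hs ⟨i, rfl⟩⟩ : s)
  refine ⟨D, fun j => ?_⟩
  have h1 := hD ⟨a j, hs ⟨j, rfl⟩⟩
  rw [h1]
  have h2 : ((⟨a j, hs ⟨j, rfl⟩⟩ : s) = ⟨a i, hs ⟨i, rfl⟩⟩) ↔ j = i := by
    rw [Subtype.mk.injEq]
    exact ha.injective.eq_iff
  simp only [h2]

/-- The span of the derivatives of an algebraically independent family. -/
theorem span_top_zero {M : ℕ} {a : Fin M → Ω} (ha : AlgebraicIndependent k a) :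
    Submodule.span Ω {v : Fin M → Ω | ∃ D : Derivation k Ω Ω, v = fun i => D (a i)} = ⊤ := by
  rw [eq_top_iff, ← (Pi.basisFun Ω (Fin M)).span_eq, Submodule.span_le]
  rintro _ ⟨i, rfl⟩
  obtain ⟨D, hD⟩ := exists_der ha i
  refine Submodule.subset_span ⟨D, ?_⟩
  funext j
  rw [Pi.basisFun_apply, hD, Pi.single_apply]
  by_cases h : j = i <;> simp [h]

/-- **Transversality.** On a generic line `a + t b`, the derivatives of the point `a + c b` and the direction `b` of the
line span everything. -/
theorem span_top {M : ℕ} {a b : Fin M → Ω} (hab : AlgebraicIndependent k (Sum.elim a b)) (c : Ω) :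
    Submodule.span Ω ({v : Fin M → Ω | ∃ D : Derivation k Ω Ω, v = fun i => D (a i + c * b i)} ∪ {b}) = ⊤ := by
  rw [eq_top_iff, ← (Pi.basisFun Ω (Fin M)).span_eq, Submodule.span_le]
  rintro _ ⟨i, rfl⟩
  obtain ⟨D, hD⟩ := exists_der hab (Sum.inl i)
  have h1 : Pi.basisFun Ω (Fin M) i = (fun j => D (a j + c * b j)) - D c • b := by
    funext j
    have ha : D (a j) = if j = i then 1 else 0 := by
      have := hD (Sum.inl j)
      simpa using this
    have hb : D (b j) = 0 := by
      have := hD (Sum.inr j)
      simpa using this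
    rw [Pi.basisFun_apply, Pi.sub_apply, Pi.smul_apply, map_add, Derivation.leibniz, ha, hb, Pi.single_apply,
      smul_zero, zero_add, smul_eq_mul, smul_eq_mul, mul_comm (b j), add_sub_cancel_right]
  rw [h1]
  exact Submodule.sub_mem _ (Submodule.subset_span (Or.inl ⟨D, rfl⟩))
    (Submodule.smul_mem _ _ (Submodule.subset_span (Or.inr rfl)))

end

end K667.Trans
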